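import Cfsg.Agent.Lib.FusionCertN.Code
import Cfsg.Agent.Lib.Leech.Stab.McLOrbits
import Cfsg.Agent.Lib.Leech.Simple.Pairs

/-! The group McL as coded permutations of its 275 vectors. -/

set_option autoImplicit false

namespace CfsgLib.FusionCertN.LeechRep

open Cfsg CfsgLib CfsgLib.Leech.Stab

/-- The pair stabiliser. -/
noncomputable abbrev mclGroup : Subgroup Co0 := Leech.pairStab ptU ptV

/-- The points. -/
noncomputable abbrev Pts : Type := ↥mcL275Cert.set

theorem smul_mem_pts (g : mclGroup) {x : leechLattice} (hx : x ∈ mcL275Cert.set) :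
    (g : Co0) • x ∈ mcL275Cert.set := by
  refine mem_set_smul ?_ hx
  intro e he
  simp only [mcL275Cert, List.mem_cons, List.not_mem_nil, or_false] at he
  rcases he with rfl | rfl
  · exact g.2.1
  · exact g.2.2

noncomputable instance mclPtsAction : MulAction mclGroup Pts where
  smul g x := ⟨(g : Co0) • x.1, smul_mem_pts g x.2⟩
  one_smul x := Subtype.ext (one_smul Co0 x.1)
  mul_smul g h x := Subtype.ext (mul_smul (g : Co0) (h : Co0) x.1)

/-- The points in packed form. -/
def nth (i : ℕ) : ℕ := mcL275Cert.codes.getD i 0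

theorem codes_check : (mcL275Cert.codes.all fun n => latB n &&
    (dotZ (dig 24 n) (dig 24 n) == 32) &&
    mcL275Cert.fix.all fun e => latB e.1 && (dotZ (dig 24 n) (dig 24 e.1) == e.2)) = true ∧
    mcL275Cert.codes.length = 275 := by decide +kernel

theorem nth_mem {i : ℕ} (hi : i < 275) : nth i ∈ mcL275Cert.codes := by
  rw [nth, List.getD_eq_getElem _ _ (by rw [codes_check.2]; exact hi)]
  exact List.getElem_mem _

theorem nth_facts {i : ℕ} (hi : i < 275) :
    Rep (lat (nth i) : GolayPt → ℤ) (nth i) ∧ lat (nth i) ∈ mcL275Cert.set := by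
  have h := List.all_eq_true.1 codes_check.1 _ (nth_mem hi)
  simp only [Bool.and_eq_true, List.all_eq_true, beq_iff_eq] at h
  obtain ⟨⟨h1, h2⟩, h3⟩ := h
  obtain ⟨e1, e2, -⟩ := listOf_lat h1
  refine ⟨e2, by rw [← dotInt_self, ← dotZ_listOf, e1, h2], fun e he => ?_⟩
  rw [← dotZ_listOf, e1, (listOf_lat (h3 e he).1).1, (h3 e he).2]

/-- The enumeration of the points. -/
noncomputable def pt (i : Fin 275) : Pts := ⟨lat (nth i), (nth_facts i.2).2⟩

theorem pt_injective : Function.Injective pt := by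
  intro i j h
  have h' : lat (nth i) = lat (nth j) := congrArg Subtype.val h
  have e1 := (nth_facts i.2).1
  have e2 := (nth_facts j.2).1
  rw [← h'] at e2
  have e3 : colZ (nth i) = colZ (nth j) := e1.symm.trans e2
  simp only [colZ] at e3
  have e4 : nth i = nth j := by omega
  have hl := codes_check.2
  rw [nth, nth, List.getD_eq_getElem _ _ (by rw [hl]; exact i.2),
    List.getD_eq_getElem _ _ (by rw [hl]; exact j.2)] at e4
  exact Fin.ext ((nodupB_spec _ _ mcL275_nodup).1.getElem_inj_iff.1 e4)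

theorem pt_bijective : Function.Bijective pt := by
  have hfin : Finite Pts := Nat.finite_of_card_ne_zero (by
    rw [Nat.card_coe_set_eq, mcl_ncard.1]; norm_num)
  refine (Nat.bijective_iff_injective_and_card pt).2 ⟨pt_injective, ?_⟩
  rw [Nat.card_coe_set_eq, mcl_ncard.1, Nat.card_eq_fintype_card, Fintype.card_fin]

/-- The points numbered. -/
noncomputable def ptEquiv : Fin 275 ≃ Pts := Equiv.ofBijective pt pt_bijective

/-- The permutation representation. -/
noncomputable def ρ : mclGroup →* Equiv.Perm (Fin 275) :=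
  (Equiv.permCongrHom ptEquiv.symm).toMonoidHom.comp (MulAction.toPermHom mclGroup Pts)

theorem ρ_apply (g : mclGroup) (i : Fin 275) : pt (ρ g i) = g • pt i := by
  show ptEquiv _ = g • ptEquiv i
  simp [ρ, Equiv.permCongr_apply]

theorem group_eq : Leech.pairStab ptV (ptU - ptV) = mclGroup := by
  ext g
  constructor
  · rintro ⟨h1, h2⟩
    refine ⟨?_, h1⟩
    have h1' : g • ptV = ptV := h1
    have h2' : g • (ptU - ptV) = ptU - ptV := h2
    show g • ptU = ptU
    have : g • (ptV + (ptU - ptV)) = ptV + (ptU - ptV) := by rw [Leech.smul_add', h1', h2']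
    rwa [add_sub_cancel] at this
  · rintro ⟨h1, h2⟩
    refine ⟨h2, ?_⟩
    show g • (ptU - ptV) = ptU - ptV
    rw [sub_eq_add_neg, Leech.smul_add', Leech.smul_neg', show g • ptU = ptU from h1,
      show g • ptV = ptV from h2]

theorem isMcL : IsMcL mclGroup := by
  rw [← group_eq]
  refine Leech.isMcL_pairStab pt_dots.2.1 ?_ ?_
  · rw [AddSubgroup.coe_sub, sqNorm_sub, pt_dots.1, pt_dots.2.1, dot_comm,
      pt_dots.2.2.2.2.2.1]
    norm_num
  · rw [AddSubgroup.coe_sub, dot_comm, sub_eq_add_neg, dot_add_left,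
      dot_comm (ptU : GolayPt → ℤ), pt_dots.2.2.2.2.2.1]
    show 24 + dotInt (-(ptV : GolayPt → ℤ)) (ptV : GolayPt → ℤ) = -8
    have : dotInt (-(ptV : GolayPt → ℤ)) (ptV : GolayPt → ℤ) = -sqNorm (ptV : GolayPt → ℤ) := by
      simp [dotInt, sqNorm, pow_two]
    rw [this, pt_dots.2.1]
    norm_num

theorem ρ_injective : Function.Injective ρ := by
  rw [← MonoidHom.ker_eq_bot_iff]
  refine (isMcL.1.eq_bot_or_eq_top_of_normal ρ.ker inferInstance).resolve_right fun htop => ?_
  have hne : pt 0 ≠ pt 1 := fun h => absurd (pt_injective h) (by decide)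
  obtain ⟨g, hg, hgx⟩ := cert_transitive mcL275_base mcL275_tree mcL275_nodup mcL275_bound
    (pt 0).2 (pt 1).2
  let a : mclGroup := ⟨g, hg (_, 24) (by simp [mcL275Cert]), hg (_, 16) (by simp [mcL275Cert])⟩
  have hker : a ∈ ρ.ker := by rw [htop]; exact Subgroup.mem_top _
  have h1 : ρ a = 1 := MonoidHom.mem_ker.1 hker
  have h2 := ρ_apply a 0
  rw [h1] at h2
  exact hne ((show pt 0 = a • pt 0 from h2).trans (Subtype.ext hgx))

/-- Check that columns act on the points by the coded permutation. -/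
def genCheck (cols : List ℕ) (c : ℕ) : Bool :=
  (mcL275Cert.fix.all fun e => latB e.1 && applyB cols e.1 e.1) &&
    (enc (app c) 275 == c) &&
    (List.range 275).all fun i => Nat.blt (app c i) 275 && applyB cols (nth i) (nth (app c i))

theorem exists_gen {s : List (Op × List ℕ)} (hs : slpB s = true) {k : ℕ} (hk : k < s.length) {c : ℕ}
    (h : genCheck (colsAt s k) c = true) : ∃ g : mclGroup, code (ρ g) = c := by
  obtain ⟨g, hg⟩ := slp_sound hs k hk
  simp only [genCheck, Bool.and_eq_true, List.all_eq_true, List.mem_range, beq_iff_eq, Nat.blt_eq] at h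
  obtain ⟨⟨hfix, henc⟩, hall⟩ := h
  have hfx : ∀ e ∈ mcL275Cert.fix, g • lat e.1 = lat e.1 := by
    intro e he
    obtain ⟨h1, h2⟩ := hfix e he
    obtain ⟨-, f2, f3⟩ := listOf_lat h1
    exact Subtype.ext (rep_inj (rep_smul hg f2 f3 (applyC_of_applyB h2)) f2
      (by rw [Leech.sqNorm_smul]; exact f3) f3)
  refine ⟨⟨g, hfx (_, 24) (by simp [mcL275Cert]), hfx (_, 16) (by simp [mcL275Cert])⟩, ?_⟩
  set a : mclGroup := ⟨g, hfx (_, 24) (by simp [mcL275Cert]), hfx (_, 16) (by simp [mcL275Cert])⟩
  conv_rhs => rw [← henc]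
  refine enc_congr fun i hi => ?_
  rw [dif_pos hi]
  obtain ⟨hlt, happ⟩ := hall i hi
  have h2 : pt ⟨app c i, hlt⟩ = a • pt ⟨i, hi⟩ := by
    obtain ⟨r1, r2⟩ := nth_facts hi
    obtain ⟨t1, t2⟩ := nth_facts hlt
    refine Subtype.ext (Subtype.ext (rep_inj t1 (rep_smul hg r1 (le_of_eq_of_le r2.1 (by norm_num))
      (applyC_of_applyB happ)) (le_of_eq_of_le t2.1 (by norm_num)) ?_))
    exact le_of_eq_of_le (by show sqNorm ((g • lat (nth i) : leechLattice) : GolayPt → ℤ) = 32; rw [Leech.sqNorm_smul]; exact r2.1) (by norm_num : (32 : ℤ) ≤ 80)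
  rw [← ρ_apply] at h2
  exact (congrArg Fin.val (pt_injective h2)).symm

/-- Check a list of products. -/
def linesB : List ℕ → List (ℕ × ℕ × ℕ) → Bool
  | _, [] => true
  | known, (i, j, c) :: rest =>
    Nat.blt i known.length && Nat.blt j known.length &&
      (mulC (known.getD i 0) (known.getD j 0) == c) && linesB (known ++ [c]) rest

theorem lines_sound : ∀ (rest : List (ℕ × ℕ × ℕ)) (known : List ℕ),
    (∀ c ∈ known, ∃ g : mclGroup, code (ρ g) = c) → linesB known rest = true →
    ∀ c ∈ known ++ rest.map (fun e => e.2.2), ∃ g : mclGroup, code (ρ g) = c := by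
  intro rest
  induction rest with
  | nil => intro known hk _ c hc; exact hk c (by simpa using hc)
  | cons e rest ih =>
    obtain ⟨i, j, c⟩ := e
    intro known hk h d hd
    simp only [linesB, Bool.and_eq_true, Nat.blt_eq, beq_iff_eq] at h
    obtain ⟨⟨⟨hi, hj⟩, hc⟩, hrest⟩ := h
    refine ih (known ++ [c]) ?_ hrest d (by simpa using hd)
    intro x hx
    rcases List.mem_append.1 hx with hx | hx
    · exact hk x hx
    rw [List.mem_singleton] at hx
    obtain ⟨a, ha⟩ := hk (known.getD i 0) (by rw [List.getD_eq_getElem _ _ hi]; exact List.getElem_mem _)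
    obtain ⟨b, hb⟩ := hk (known.getD j 0) (by rw [List.getD_eq_getElem _ _ hj]; exact List.getElem_mem _)
    exact ⟨a * b, by rw [map_mul, code_mul, ha, hb, hc, hx]⟩

end CfsgLib.FusionCertN.LeechRep
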