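import Cfsg.Agent.Lib.FusionCertN.McLData
import Cfsg.Agent.Lib.FusionCertN.LeechRep
import Cfsg.Agent.Lib.Leech.Stab.Co3Pairs
import Cfsg.Prelude.Def_Spor_Conway

/-! The 2-fusion system of McL is simple. -/

set_option autoImplicit false

namespace CfsgLib.FusionCertN.McL

open Cfsg CfsgLib CfsgLib.Leech.Stab CfsgLib.FusionCertN.LeechRep

theorem cert_check : cert.check = true := by decide +kernel

theorem genA_check : genCheck (colsAt mcL275Slp 57) genA = true := by decide +kernel

theorem genB_check : genCheck (colsAt mcL275Slp 74) genB = true := by decide +kernel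

theorem lines_check : linesB [genA, genB] lines = true := by decide +kernel

theorem members_check : ((cert.hs ++ cert.conjs).all fun c =>
    ([genA, genB] ++ lines.map fun e => e.2.2).contains c) = true := by decide +kernel

theorem slp_length : mcL275Slp.length = 75 := by decide +kernel

theorem cert_mem : ∀ c ∈ cert.hs ++ cert.conjs, ∃ g : mclGroup, code (ρ g) = c := by
  intro c hc
  have hb : slpB mcL275Slp = true := by
    have h := mcL275_base
    simp only [Cert.baseB, Bool.and_eq_true] at h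
    exact h.1.1.1.1
  have hgens : ∀ d ∈ [genA, genB], ∃ g : mclGroup, code (ρ g) = d := by
    intro d hd
    simp only [List.mem_cons, List.not_mem_nil, or_false] at hd
    rcases hd with rfl | rfl
    · exact exists_gen hb (by rw [slp_length]; norm_num) genA_check
    · exact exists_gen hb (by rw [slp_length]; norm_num) genB_check
  have h := List.all_eq_true.1 members_check c hc
  exact lines_sound lines _ hgens lines_check c (List.contains_iff_mem.1 h)

theorem cert_length : cert.hs.length = 7 := rfl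

theorem norm_spor : sqNorm ((Spor.leechV : leechLattice) : GolayPt → ℤ) = 48 ∧
    sqNorm ((-Spor.leechU : leechLattice) : GolayPt → ℤ) = 32 ∧
    dotInt ((-Spor.leechU : leechLattice) : GolayPt → ℤ)
      ((Spor.leechV : leechLattice) : GolayPt → ℤ) = 24 := by
  show sqNorm Spor.vecV = 48 ∧ sqNorm (-Spor.vecU) = 32 ∧ dotInt (-Spor.vecU) Spor.vecV = 24
  decide +kernel

theorem smul_neg_iff {g : Co0} : g • (-Spor.leechU) = -Spor.leechU ↔ g • Spor.leechU = Spor.leechU := by
  rw [Leech.smul_neg', neg_inj]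

/-- `Spor.McL` is the stabiliser of the pair. -/
theorem nonempty_mcl_equiv : Nonempty (Spor.McL ≃* mclGroup) := by
  let e : Spor.McL ≃* Leech.pairStab Spor.leechV (-Spor.leechU) :=
    { toFun := fun h => ⟨⟨h.1, h.2.1.1⟩, h.2.1.2,
        (smul_neg_iff (g := ⟨h.1, h.2.1.1⟩)).2 h.2.2⟩
      invFun := fun g => ⟨g.1.1, ⟨g.1.2, g.2.1⟩, (smul_neg_iff (g := g.1)).1 g.2.2⟩
      left_inv := fun _ => rfl
      right_inv := fun _ => rfl
      map_mul' := fun _ _ => rfl }
  obtain ⟨h1, h2, h3⟩ := norm_spor
  obtain ⟨g, g1, g2⟩ := normal_pair h1 h2 h3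
  obtain ⟨e'⟩ := Leech.nonempty_pairStab_equiv g1 g2
  exact ⟨e.trans e'⟩

theorem isSimple_of_equiv {Γ : Type*} [Group Γ] [Finite Γ] (ψ : Γ ≃* mclGroup) (S : Sylow 2 Γ) :
    (groupFusionSystem (S : Subgroup Γ)).IsSimple 2 := by
  have hinj : Function.Injective (ρ.comp ψ.toMonoidHom) := ρ_injective.comp ψ.injective
  have hmem : ∀ c ∈ cert.hs ++ cert.conjs, ∃ g : Γ, code ((ρ.comp ψ.toMonoidHom) g) = c := by
    intro c hc
    obtain ⟨g, hg⟩ := cert_mem c hc
    exact ⟨ψ.symm g, by simpa using hg⟩
  refine SimpleCert.isSimple cert _ hinj cert_check hmem (o := 7016625) ?_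
    (by norm_num) (by rw [cert_length]; norm_num) S
  rw [cert_length, Nat.card_congr ψ.toEquiv, isMcL.2]
  norm_num

theorem isSimple_of_isoMcL {Γ : Type*} [Group Γ] [Finite Γ] (h : Spor.IsoMcL Γ)
    (S : Sylow 2 Γ) : (groupFusionSystem (S : Subgroup Γ)).IsSimple 2 := by
  obtain ⟨e⟩ := h
  obtain ⟨e'⟩ := nonempty_mcl_equiv
  exact isSimple_of_equiv (e.trans e') S

end CfsgLib.FusionCertN.McL
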